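import Groth.Agent.S14795
import Groth.Agent.Lib.AWN25.Basic
import Groth.Agent.Lib.Hensel.Reduced
import Mathlib

/-!
# Weak subintegral closure and base change
-/

set_option autoImplicit false
set_option backward.isDefEq.respectTransparency false
universe u

open scoped TensorProduct
open CategoryTheory AlgebraicGeometry GrothLib.UHTower

namespace Groth.Agent.WeakSub4

variable {A B A' : Type u} [CommRing A] [CommRing B] [CommRing A'] [Algebra A B] [Algebra A A']

theorem uh_of_algEquiv {P Q : Type u} [CommRing P] [CommRing Q] [Algebra A P] [Algebra A Q] (e : P ≃ₐ[A] Q)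
    (h : UH (algebraMap A P)) : UH (algebraMap A Q) := by
  have := GrothLib.AWN25.uh_comp h (GrothLib.AWN25.uh_of_bijective (φ := e.toRingEquiv.toRingHom) e.bijective)
  exact (RingHom.ext fun a => e.commutes a : e.toRingEquiv.toRingHom.comp (algebraMap A P) = algebraMap A Q) ▸ this

theorem lTensor_sub_eq_zero {P N Q : Type u} [CommRing P] [Algebra A P] [CommRing N] [Algebra A N]
    [_root_.IsReduced (A' ⊗[A] N)] [CommRing Q] [Algebra A' Q] (hQ : UH (algebraMap A' Q))
    (j : Q →ₐ[A'] A' ⊗[A] P) (i₁ i₂ : P →ₐ[A] N) (q : Q) :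
    (i₁.toLinearMap - i₂.toLinearMap).lTensor A' (j q) = 0 := by
  let I₁ : A' ⊗[A] P →ₐ[A'] A' ⊗[A] N := Algebra.TensorProduct.map (AlgHom.id A' A') i₁
  let I₂ : A' ⊗[A] P →ₐ[A'] A' ⊗[A] N := Algebra.TensorProduct.map (AlgHom.id A' A') i₂
  have hδ : (i₁.toLinearMap - i₂.toLinearMap).lTensor A' (j q) = I₁ (j q) - I₂ (j q) := by
    simp only [LinearMap.lTensor_sub, LinearMap.sub_apply]
    rfl
  suffices hn : I₁ (j q) - I₂ (j q) ∈ nilradical (A' ⊗[A] N) by
    rw [hδ]
    exact IsNilpotent.eq_zero (mem_nilradical.mp hn)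
  rw [nilradical_eq_sInf, Ideal.mem_sInf]
  intro p (hp : p.IsPrime)
  let g : A' ⊗[A] N →+* FractionRing ((A' ⊗[A] N) ⧸ p) := (algebraMap _ _).comp (Ideal.Quotient.mk p)
  have hfg := hQ.2.2 _ (g.comp (I₁.comp j).toRingHom) (g.comp (I₂.comp j).toRingHom) (RingHom.ext fun a => by
    show g (I₁ (j (algebraMap A' Q a))) = g (I₂ (j (algebraMap A' Q a)))
    rw [AlgHom.commutes, AlgHom.commutes, AlgHom.commutes])
  have h1 := DFunLike.congr_fun hfg q
  change g (I₁ (j q)) = g (I₂ (j q)) at h1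
  rw [← sub_eq_zero, ← map_sub] at h1
  exact Ideal.Quotient.eq_zero_iff_mem.1 ((map_eq_zero_iff _ (IsFractionRing.injective _ _)).1 h1)

theorem main (hinj : Function.Injective (algebraMap A B)) [Module.Flat A A']
    (hbij : Function.Bijective (TensorProduct.toIntegralClosure A A' B))
    (hred : ∀ (N : Type u) [CommRing N] [Algebra A N] [_root_.IsReduced N], _root_.IsReduced (A' ⊗[A] N))
    (C : Subalgebra A B) (hC : UH (algebraMap A C))
    (hmax : ∀ D : Subalgebra A B, UH (algebraMap A D) → D ≤ C)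
    (C' : Subalgebra A' (A' ⊗[A] B)) (hC' : UH (algebraMap A' C'))
    (hmax' : ∀ D : Subalgebra A' (A' ⊗[A] B), UH (algebraMap A' D) → D ≤ C') :
    (C' : Set (A' ⊗[A] B)) = Set.range (Algebra.TensorProduct.map (AlgHom.id A A') C.val) := by
  let κ : A' ⊗[A] C →ₐ[A'] A' ⊗[A] B := Algebra.TensorProduct.map (AlgHom.id A' A') C.val
  have hκA : ∀ w, Algebra.TensorProduct.map (AlgHom.id A A') C.val w = κ w := fun w => by
    induction w with
    | zero => simp
    | tmul a c => simp [κ]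
    | add u v hu hv => simp [hu, hv]
  have hκinj : Function.Injective κ :=
    Module.Flat.lTensor_preserves_injective_linearMap (M := A') C.val.toLinearMap Subtype.val_injective
  apply Set.Subset.antisymm
  · intro z hz
    -- work inside the integral closure
    haveI : Algebra.IsIntegral A C := ⟨hC.1⟩
    let B₁ := integralClosure A B
    have hCB : C ≤ B₁ := fun c hc => (Algebra.IsIntegral.isIntegral (⟨c, hc⟩ : C)).map C.val
    let C₁ : Subalgebra A B₁ := C.comap B₁.val
    have hC₁ : UH (algebraMap A C₁) := by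
      refine uh_of_algEquiv (AlgEquiv.ofBijective
        (((Subalgebra.inclusion hCB).codRestrict C₁ fun c => c.2 : C →ₐ[A] C₁)) ⟨fun a b h => ?_, fun c => ?_⟩) hC
      · exact Subtype.ext (congrArg (fun t : C₁ => ((t : B₁) : B)) h)
      · exact ⟨⟨((c : B₁) : B), c.2⟩, Subtype.ext (Subtype.ext rfl)⟩
    have hmax₁ : ∀ D : Subalgebra A B₁,
        FlatMor.IsUnivHomeo (Spec.map (CommRingCat.ofHom (algebraMap A D))) → D ≤ C₁ := fun D hD d hd =>
      hmax (D.map B₁.val) (uh_of_algEquiv (D.equivMapOfInjective B₁.val Subtype.val_injective)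
        (isUnivHomeo_iff_uh.1 hD)) ⟨d, hd, rfl⟩
    have hinj₁ : Function.Injective (algebraMap A B₁) := fun a b h => hinj (congrArg Subtype.val h)
    obtain ⟨N, _, _, _, i₁, i₂, hker⟩ : ∃ (N : Type u) (_ : CommRing N) (_ : Algebra A N) (_ : _root_.IsReduced N)
        (i₁ i₂ : B₁ →ₐ[A] N), ∀ b : B₁, (i₁.toLinearMap - i₂.toLinearMap) b = 0 ↔ (b : B) ∈ C := by
      refine ⟨(B₁ ⊗[A] B₁) ⧸ nilradical (B₁ ⊗[A] B₁), inferInstance, inferInstance,
        (Ideal.isRadical_iff_quotient_reduced _).mp (Ideal.radical_isRadical _),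
        (Ideal.Quotient.mkₐ A _).comp Algebra.TensorProduct.includeLeft,
        (Ideal.Quotient.mkₐ A _).comp Algebra.TensorProduct.includeRight, fun b => ?_⟩
      rw [show ((b : B) ∈ C) ↔ b ∈ C₁ from Iff.rfl,
        Groth.Agent.S14795.result hinj₁ C₁ (isUnivHomeo_iff_uh.2 hC₁) hmax₁ b, ← mem_nilradical,
        ← Ideal.Quotient.eq_zero_iff_mem, map_sub]
      rfl
    let δ : B₁ →ₗ[A] N := i₁.toLinearMap - i₂.toLinearMap
    have hex : Function.Exact (Subalgebra.inclusion hCB).toLinearMap δ := fun b => by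
      rw [hker]
      exact ⟨fun h => ⟨⟨(b : B), h⟩, Subtype.ext rfl⟩, fun ⟨c, hc⟩ => hc ▸ c.2⟩
    -- the element comes from the integral closure
    have hzint : z ∈ integralClosure A' (A' ⊗[A] B) := IsIntegral.map C'.val (hC'.1 ⟨z, hz⟩)
    obtain ⟨y, hy⟩ := hbij.2 ⟨z, hzint⟩
    have hy' : Algebra.TensorProduct.map (AlgHom.id A' A') B₁.val y = z := congrArg Subtype.val hy
    let e : A' ⊗[A] B₁ ≃ₐ[A'] integralClosure A' (A' ⊗[A] B) := AlgEquiv.ofBijective _ hbij
    have hC'int : C' ≤ integralClosure A' (A' ⊗[A] B) := fun c hc => IsIntegral.map C'.val (hC'.1 ⟨c, hc⟩)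
    let j : C' →ₐ[A'] A' ⊗[A] B₁ := e.symm.toAlgHom.comp (Subalgebra.inclusion hC'int)
    have hj : j ⟨z, hz⟩ = y := (AlgEquiv.symm_apply_eq e).mpr hy.symm
    haveI := hred N
    have h0 : δ.lTensor A' y = 0 := by
      have h := lTensor_sub_eq_zero hC' j i₁ i₂ ⟨z, hz⟩
      rw [hj] at h
      exact h
    obtain ⟨w, hw⟩ := (Module.Flat.lTensor_exact A' hex y).1 h0
    refine ⟨w, ?_⟩
    rw [hκA, ← hy', ← hw]
    clear hw
    induction w with
    | zero => simp
    | tmul a c => simp [κ]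
    | add u v hu hv => simp [hu, hv]
  · rintro _ ⟨w, rfl⟩
    rw [hκA]
    refine hmax' κ.range (uh_of_algEquiv (AlgEquiv.ofInjective κ hκinj) ?_) ⟨w, rfl⟩
    have h := isUnivHomeo_iff_uh.2 hC
    refine isUnivHomeo_iff_uh.1 ?_
    haveI : FlatMor.IsUnivHomeo.{u}.IsStableUnderBaseChange := MorphismProperty.universally_isStableUnderBaseChange _
    exact MorphismProperty.of_isPullback (P := FlatMor.IsUnivHomeo)
      (isPullback_SpecMap_of_isPushout _ _ _ _ (CommRingCat.isPushout_tensorProduct A A' C).flip) h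

end Groth.Agent.WeakSub4
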